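import Groth.Agent.L25.SplitSub.Map
import Groth.Agent.L23.SchemeFacts
import Groth.Prelude.Def_NonAbH2
import Groth.Prelude.Def_Red2
import Mathlib.AlgebraicGeometry.Sites.Fpqc
import Mathlib.Data.ZMod.Basic

/-!
# The Kummer sequence of diagonalisable groups
-/

set_option autoImplicit false
universe u

open CategoryTheory CategoryTheory.Limits MonoidalCategory CartesianMonoidalCategory AlgebraicGeometry
open scoped MonObj

set_option backward.isDefEq.respectTransparency.types false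
set_option linter.style.haveILetI false

noncomputable section

namespace Groth.L16.Kummer

open Groth.L25

variable {S : Scheme.{u}}

abbrev cast (n : ℕ) : ℤ →+ ZMod n := Int.castAddHom (ZMod n)

theorem mono_DSmap_cast (n : ℕ) : Mono (Red.DSmap S (cast n)) :=
  ⟨fun a b e => DSPts.char_injective (MonoidHom.ext fun x => by
    obtain ⟨m, hm⟩ := ZMod.intCast_surjective x.toAdd
    have := DFunLike.congr_fun (congrArg DSPts.char e) (Multiplicative.ofAdd m)
    rw [SplitSub.char_DSmap, SplitSub.char_DSmap] at this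
    change DSPts.char a (Multiplicative.ofAdd ((cast n) m)) = DSPts.char b (Multiplicative.ofAdd ((cast n) m)) at this
    rwa [show (cast n) m = x.toAdd from hm] at this)⟩

theorem char_chi {T : Over S} (t : T ⟶ Red.DS S ℤ) (n m : ℤ) :
    DSPts.char (t ≫ Red.chi S n) (Multiplicative.ofAdd m) = DSPts.char t (Multiplicative.ofAdd (m * n)) := by
  rw [Red.chi, SplitSub.char_DSmap]
  show DSPts.char t (Multiplicative.ofAdd (zmultiplesHom ℤ n m)) = _
  simp [zmultiplesHom_apply]

theorem comp_eq_one (n : ℕ) : Red.DSmap S (cast n) ≫ Red.chi S (n : ℤ) = 1 := by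
  apply DSPts.char_injective
  rw [DSPts.char_one]
  refine MonoidHom.ext (Multiplicative.ofAdd.surjective.forall.2 fun m => ?_)
  rw [char_chi, ← Category.id_comp (Red.DSmap S (cast n)), SplitSub.char_DSmap]
  show DSPts.char (𝟙 _) (Multiplicative.ofAdd ((cast n) (m * n))) = 1
  rw [show (cast n) (m * n) = 0 by simp]
  exact map_one _

theorem exists_kernel_point {T : Over S} (n : ℕ) (a b : T ⟶ Red.DS S ℤ)
    (h : a ≫ Red.chi S (n : ℤ) = b ≫ Red.chi S (n : ℤ)) :
    ∃ z : T ⟶ Red.DS S (ZMod n), a * (z ≫ Red.DSmap S (cast n)) = b := by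
  let ca := MonoidHom.toHomUnits (DSPts.char a)
  let cb := MonoidHom.toHomUnits (DSPts.char b)
  let f : ℤ →+ Additive Γ(T.left, ⊤)ˣ := MonoidHom.toAdditiveRight (cb / ca)
  have hn : f (n : ℤ) = 0 := by
    show Additive.ofMul (cb (Multiplicative.ofAdd (n : ℤ)) / ca (Multiplicative.ofAdd (n : ℤ))) = 0
    rw [show cb (Multiplicative.ofAdd (n : ℤ)) = ca (Multiplicative.ofAdd (n : ℤ)) from Units.ext (by
      have h1 := DFunLike.congr_fun (congrArg DSPts.char h) (Multiplicative.ofAdd 1)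
      rw [char_chi, char_chi, one_mul] at h1
      exact h1.symm), div_self']
    rfl
  let χ : Multiplicative (ZMod n) →* Γ(T.left, ⊤) :=
    (Units.coeHom _).comp (AddMonoidHom.toMultiplicativeLeft (ZMod.lift n ⟨f, hn⟩))
  refine ⟨DSPts.pt χ, DSPts.char_injective (MonoidHom.ext (Multiplicative.ofAdd.surjective.forall.2 fun m => ?_))⟩
  rw [DSPts.char_mul, MonoidHom.mul_apply, SplitSub.char_DSmap, DSPts.char_pt]
  show DSPts.char a (Multiplicative.ofAdd m) * χ (Multiplicative.ofAdd ((cast n) m)) = _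
  have hχ : χ (Multiplicative.ofAdd ((cast n) m)) = ((cb / ca) (Multiplicative.ofAdd m) : Γ(T.left, ⊤)ˣ) := by
    show ((Additive.toMul (ZMod.lift n ⟨f, hn⟩ (m : ZMod n)) : Γ(T.left, ⊤)ˣ) : Γ(T.left, ⊤)) = _
    rw [ZMod.lift_coe]
    rfl
  rw [hχ]
  show (ca (Multiplicative.ofAdd m) : Γ(T.left, ⊤)) *
    ((cb (Multiplicative.ofAdd m) / ca (Multiplicative.ofAdd m) : Γ(T.left, ⊤)ˣ) : Γ(T.left, ⊤)) =
      (cb (Multiplicative.ofAdd m) : Γ(T.left, ⊤))
  rw [← Units.val_mul, mul_div_cancel]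

theorem isPullback (n : ℕ) :
    IsPullback (fst (Red.DS S ℤ) (Red.DS S (ZMod n)))
      ((Red.DS S ℤ ◁ Red.DSmap S (cast n)) ≫ μ[Red.DS S ℤ]) (Red.chi S (n : ℤ)) (Red.chi S (n : ℤ)) := by
  haveI : IsMonHom (Red.DSmap S (cast n)) := TorusTorsion.isMonHom_DSmap S _
  haveI : IsMonHom (Red.chi S (n : ℤ)) := TorusTorsion.isMonHom_DSmap S _
  haveI := mono_DSmap_cast (S := S) n
  have key : ∀ {T : Over S} (a : T ⟶ Red.DS S ℤ) (z : T ⟶ Red.DS S (ZMod n)),
      lift a z ≫ (Red.DS S ℤ ◁ Red.DSmap S (cast n)) ≫ μ[Red.DS S ℤ] = a * (z ≫ Red.DSmap S (cast n)) := by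
    intro T a z
    rw [Hom.mul_def, lift_whiskerLeft_assoc]
  have hsnd : (Red.DS S ℤ ◁ Red.DSmap S (cast n)) ≫ μ[Red.DS S ℤ] =
      fst (Red.DS S ℤ) (Red.DS S (ZMod n)) * (snd _ _ ≫ Red.DSmap S (cast n)) := by
    rw [← key, lift_fst_snd, Category.id_comp]
  have sq : CommSq (fst (Red.DS S ℤ) (Red.DS S (ZMod n)))
      ((Red.DS S ℤ ◁ Red.DSmap S (cast n)) ≫ μ[Red.DS S ℤ]) (Red.chi S (n : ℤ)) (Red.chi S (n : ℤ)) := ⟨by
    apply DSPts.char_injective
    refine MonoidHom.ext (Multiplicative.ofAdd.surjective.forall.2 fun m => ?_)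
    rw [char_chi, char_chi, hsnd, DSPts.char_mul, MonoidHom.mul_apply, SplitSub.char_DSmap]
    show _ = _ * DSPts.char (snd _ _) (Multiplicative.ofAdd ((cast n) (m * n)))
    rw [show (cast n) (m * n) = 0 by simp, show Multiplicative.ofAdd (0 : ZMod n) = 1 from rfl, map_one, mul_one]⟩
  choose z hz using fun (s : PullbackCone (Red.chi S (n : ℤ)) (Red.chi S (n : ℤ))) =>
    exists_kernel_point n s.fst s.snd s.condition
  refine ⟨sq, ⟨PullbackCone.IsLimit.mk sq.w (fun s => lift s.fst (z s)) (fun s => lift_fst _ _)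
    (fun s => (key _ _).trans (hz s)) (fun s m h₁ h₂ => ?_)⟩⟩
  apply hom_ext
  · rw [lift_fst, h₁]
  · rw [lift_snd]
    apply (cancel_mono (Red.DSmap S (cast n))).1
    rw [hsnd, MonObj.comp_mul, h₁, ← hz s, ← Category.assoc] at h₂
    apply DSPts.char_injective
    refine MonoidHom.ext fun x => ?_
    have h3 := DFunLike.congr_fun (congrArg DSPts.char h₂) x
    rw [DSPts.char_mul, DSPts.char_mul, MonoidHom.mul_apply, MonoidHom.mul_apply] at h3
    exact ((Group.isUnit x).map (DSPts.char s.fst)).mul_left_cancel h3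

theorem lfp_DS_hom (M : Type) [AddCommGroup M] [Monoid.FG (Multiplicative M)] :
    LocallyOfFinitePresentation (Red.DS S M).hom := by
  have h1 : LocallyOfFinitePresentation (Red.diag (ULift.{u} ℤ) M).hom := by
    show LocallyOfFinitePresentation (Spec.map (CommRingCat.ofHom
      (algebraMap (ULift.{u} ℤ) (MonoidAlgebra (ULift.{u} ℤ) (Multiplicative M)))))
    rw [HasRingHomProperty.Spec_iff (P := @LocallyOfFinitePresentation), CommRingCat.hom_ofHom]
    have : IsNoetherianRing (ULift.{u} ℤ) := isNoetherianRing_of_ringEquiv ℤ ULift.ringEquiv.symm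
    exact RingHom.FinitePresentation.of_finiteType.1 (RingHom.finiteType_algebraMap.2 inferInstance)
  exact MorphismProperty.pullback_snd _ _ h1

theorem isExactSeq_fppf (n : ℕ) (hn : 0 < n) :
    NonAbH1.IsExactSeq Scheme.fppfPrecoverage (Red.DSmap S (cast n)) (Red.chi S (n : ℤ)) ∧
    NonAbH1.IsExactSeq Scheme.fpqcPrecoverage (Red.DSmap S (cast n)) (Red.chi S (n : ℤ)) := by
  have hinj : Function.Injective (zmultiplesHom ℤ (n : ℤ)) := fun a b h => by
    simp only [zmultiplesHom_apply, smul_eq_mul] at h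
    exact mul_right_cancel₀ (by exact_mod_cast hn.ne') h
  obtain ⟨h1, h2, h3⟩ := SplitSub.DSmap_cover (S := S) (zmultiplesHom ℤ (n : ℤ)) hinj
  haveI : Flat (Red.chi S (n : ℤ)).left := h1
  haveI : Surjective (Red.chi S (n : ℤ)).left := h2
  haveI : IsAffineHom (Red.chi S (n : ℤ)).left := h3
  haveI : LocallyOfFinitePresentation (Red.DS S ℤ).hom := lfp_DS_hom (S := S) ℤ
  haveI : LocallyOfFinitePresentation ((Red.chi S (n : ℤ)).left ≫ (Red.DS S ℤ).hom) := by
    rw [Over.w]; infer_instance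
  haveI : LocallyOfFinitePresentation (Red.chi S (n : ℤ)).left :=
    Groth.L23.lfp_of_comp_lft _ (Red.DS S ℤ).hom inferInstance
  have hsec : ∀ ⦃S' : Scheme.{u}⦄ (f : S' ⟶ (Red.DS S ℤ).left),
      Presieve.singleton (Red.chi S (n : ℤ)).left f →
        NonAbH1.HasSectionOver (Over.mk (Red.chi S (n : ℤ)).left : Over (Red.DS S ℤ).left) f := by
    rintro _ _ ⟨⟩
    exact ⟨𝟙 _, Category.id_comp _⟩
  refine ⟨⟨TorusTorsion.isMonHom_DSmap S _, TorusTorsion.isMonHom_DSmap S _, comp_eq_one n, isPullback n,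
      _, Scheme.Hom.singleton_mem_fppfPrecoverage _, hsec⟩,
    ⟨TorusTorsion.isMonHom_DSmap S _, TorusTorsion.isMonHom_DSmap S _, comp_eq_one n, isPullback n,
      _, Scheme.Hom.singleton_mem_fpqcPrecoverage _, hsec⟩⟩

end Groth.L16.Kummer
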